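import Cfsg.Agent.H200.D4.LinC

/-!
# S5261 [D3-LIN1B]: the relations determine the Weyl element and the torus (helper200)
-/

set_option autoImplicit false
set_option linter.unusedSectionVars false

namespace Cfsg.Agent.H200.D4

open Cfsg.Agent.H765.D3 Cfsg.Agent.H780.D4
open Cfsg.Agent.Hex.Defs (sh cr nm tr)

universe u

section main

variable {F K : Type u} [Field F] [Field K] [Algebra F K] {φ : K ≃ₐ[F] K} [Cub φ] {p n : ℕ}
  {x y : K → Equiv.Perm (V1 F K)}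

theorem sm3 (c : F) : ((0 : F), (0 : K), (0 : K), c) = c • ((0, 0, 0, 1) : V1 F K) := by
  change _ = ((c * 0, c • 0, c • 0, c * 1) : V1 F K)
  simp

theorem sm0 (c : F) : (c, (0 : K), (0 : K), (0 : F)) = c • ((1, 0, 0, 0) : V1 F K) := by
  change _ = ((c * 1, c • 0, c • 0, c * 0) : V1 F K)
  simp

theorem sh_one' : sh φ 1 = 1 := by simp [sh]

theorem x_m (hR : RkV φ x y) (a : K) : x a (0, 0, 0, 1) = (0, 0, 0, 1) := by
  rw [hR.xact]
  simp [cr_zero_right, tr_zero]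

theorem x_e (hR : RkV φ x y) (a : K) : x a (1, 0, 0, 0) = (1, a, sh φ a, nm φ a) := by
  rw [hR.xact]
  simp [cr_zero_right, tr_zero]

/-- fixed vectors of the unipotent group -/
theorem fixX (hR : RkV φ x y) {v : V1 F K} (h : ∀ a, x a v = v) : v = v.2.2.2 • ((0, 0, 0, 1) : V1 F K) := by
  obtain ⟨v0, v1, v2, v3⟩ := v
  have h0 : v0 = 0 := by
    have h1 := h 1
    rw [hR.xact] at h1
    have h2 := congrArg (fun v => v.2.1) h1
    dsimp only at h2
    have h3 : v0 • (1 : K) = 0 := by simpa using h2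
    rw [Algebra.smul_def, mul_one] at h3
    simpa using h3
  subst h0
  have h1 : v1 = 0 := cr_nondeg φ (fun a => by
    have h1 := h a
    rw [hR.xact] at h1
    have h2 := congrArg (fun v => v.2.2.1) h1
    dsimp only at h2
    simpa using h2)
  subst h1
  have h2 : v2 = 0 := tr_nondeg φ (fun a => by
    have h1 := h a
    rw [hR.xact] at h1
    have h2 := congrArg (fun v => v.2.2.2) h1
    dsimp only at h2
    rw [mul_comm]
    simpa [tr_zero] using h2)
  subst h2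
  exact sm3 v3

theorem yWm (hR : RkV φ x y) (b : K) : y b (ww x y 1 (0, 0, 0, 1)) = ww x y 1 (0, 0, 0, 1) := by
  have := wx' hR (-b) (0, 0, 0, 1)
  rw [neg_neg, x_m hR] at this
  exact this.symm

theorem Wm_ne (hR : RkV φ x y) : ww x y 1 (0, 0, 0, 1) ≠ 0 := by
  intro h
  have h1 : ww x y 1 (0, 0, 0, 1) = ww x y 1 0 := by rw [h, (w_Gd hR 1).zero]
  have h2 := (ww x y 1).injective h1
  have h3 := congrArg (fun v : V1 F K => v.2.2.2) h2
  exact one_ne_zero h3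

/-- not all `f²` are in `F` -/
theorem not_sq (h : ∀ f : K, f ≠ 0 → φ f ^ 2 = f ^ 2) : False := by
  obtain ⟨θ, hθ⟩ := Cub.ne (φ := φ)
  apply hθ
  apply sq_fix
  apply h
  rintro rfl
  exact hθ (map_zero φ)

/-- the relation with `h(f)` on `W m` -/
theorem Tor.m {T : K → F} (hR : RkV φ x y) (hT : Tor φ x y T) {f : K} (hf : f ≠ 0) :
    nm φ (f ^ 2) * T f * (ww x y 1 (0, 0, 0, 1)).1 = T f⁻¹ * (ww x y 1 (0, 0, 0, 1)).1 ∧
    (nm φ (f ^ 2) * T f) • (ww x y 1 (0, 0, 0, 1)).2.1 = T f⁻¹ • (f⁻¹ ^ 2 * (ww x y 1 (0, 0, 0, 1)).2.1) ∧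
    (nm φ (f ^ 2) * T f) • (ww x y 1 (0, 0, 0, 1)).2.2.1 =
      T f⁻¹ • (sh φ (f⁻¹ ^ 2) * (ww x y 1 (0, 0, 0, 1)).2.2.1) ∧
    nm φ (f ^ 2) * T f * (ww x y 1 (0, 0, 0, 1)).2.2.2 =
      nm φ (f⁻¹ ^ 2) * T f⁻¹ * (ww x y 1 (0, 0, 0, 1)).2.2.2 := by
  have h := Tor.key hR hT hf (0, 0, 0, 1)
  simp only [mul_zero, smul_zero, mul_one] at h
  rw [sm3, (w_Gd hR 1).smul] at h
  exact ⟨congrArg (fun v => v.1) h, congrArg (fun v => v.2.1) h, congrArg (fun v => v.2.2.1) h,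
    congrArg (fun v => v.2.2.2) h⟩

theorem Wm_mid (hR : RkV φ x y) :
    (ww x y 1 (0, 0, 0, 1)).2.1 = 0 ∧ (ww x y 1 (0, 0, 0, 1)).2.2.1 = 0 := by
  obtain ⟨T, hT⟩ := exists_Tor hR
  constructor
  · by_contra hne
    apply not_sq (φ := φ)
    intro f hf
    have hf' := inv_ne_zero hf
    have h1 := (Tor.m hR hT hf').2.1
    rw [inv_inv, Algebra.smul_def, Algebra.smul_def, ← mul_assoc] at h1
    have h2 := mul_right_cancel₀ hne h1
    have h3 : algebraMap F K (T f) ≠ 0 := by simpa using hT.ne hf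
    have h4 : f ^ 2 = algebraMap F K (nm φ (f⁻¹ ^ 2) * T f⁻¹ / T f) := by
      rw [map_div₀, eq_div_iff h3, h2, mul_comm]
    rw [← map_pow, h4, phi_coe]
  · by_contra hne
    apply not_sq (φ := φ)
    intro f hf
    have hf' := inv_ne_zero hf
    have h1 := (Tor.m hR hT hf').2.2.1
    rw [inv_inv, Algebra.smul_def, Algebra.smul_def, ← mul_assoc] at h1
    have h2 := mul_right_cancel₀ hne h1
    have h3 : algebraMap F K (T f) ≠ 0 := by simpa using hT.ne hf
    have h4 : sh φ (f ^ 2) = algebraMap F K (nm φ (f⁻¹ ^ 2) * T f⁻¹ / T f) := by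
      rw [map_div₀, eq_div_iff h3, h2, mul_comm]
    have h5 := congrArg φ h4
    rw [phi_coe, ← h4, sh] at h5
    simp only [map_mul, map_pow, phi3] at h5
    have h6 : φ (φ f) ^ 2 ≠ 0 := pow_ne_zero 2 (by simpa using hf)
    apply mul_right_cancel₀ h6
    linear_combination -h5

/-- **(d)** -/
theorem Wm_fst (hD : HypD φ p n) (hR : RkV φ x y) : (ww x y 1 (0, 0, 0, 1)).1 ≠ 0 := by
  intro h0
  obtain ⟨β, γ, hmid⟩ := mid hD hR
  obtain ⟨h1, h2⟩ := Wm_mid hR
  have hW := w_Gd hR 1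
  obtain ⟨s, hs⟩ : ∃ s, s = (ww x y 1 (0, 0, 0, 1)).2.2.2 := ⟨_, rfl⟩
  have hWm : ww x y 1 (0, 0, 0, 1) = s • ((0, 0, 0, 1) : V1 F K) := by
    rw [← sm3, hs]
    exact Prod.ext h0 (Prod.ext h1 (Prod.ext h2 rfl))
  have hs0 : s ≠ 0 := by
    rintro rfl
    exact Wm_ne hR (by rw [hWm, zero_smul])
  -- first coordinates
  have hfst : ∀ v : V1 F K, v.1 = 0 → (ww x y 1 v).1 = 0 := fun v hv => by
    have h3 := hW.frm (0, 0, 0, 1) v
    rw [hWm, formV_smul_left] at h3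
    simp only [formV, hv, zero_mul, mul_zero, tr_zero, one_mul, zero_sub, sub_zero, add_zero] at h3
    rcases mul_eq_zero.1 h3 with h4 | h4
    · exact absurd h4 hs0
    · simpa using h4
  have hym : ∀ b, y b (0, 0, 0, 1) = (0, 0, 0, 1) := fun b => by
    have h3 := yWm hR b
    rw [hWm, (y_Gd hR b).smul] at h3
    have h4 := congrArg (fun v => s⁻¹ • v) h3
    rw [smul_smul, smul_smul, inv_mul_cancel₀ hs0, one_smul, one_smul] at h4
    exact h4
  have hβ : β ≠ 0 := by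
    rintro rfl
    have h3 := hmid 0 1
    have h4 : ww x y 1 (0, 0, 1, 0) = ww x y 1 (((ww x y 1 (0, 0, 1, 0)).2.2.2 / s) • ((0, 0, 0, 1) : V1 F K)) := by
      rw [hW.smul, hWm, smul_smul, div_mul_cancel₀ _ hs0, ← sm3]
      refine Prod.ext (hfst _ rfl) (Prod.ext ?_ (Prod.ext ?_ rfl))
      · rw [h3.1, zero_mul]
      · rw [h3.2, mul_zero]
    have h5 := (ww x y 1).injective h4
    rw [← sm3] at h5
    have h6 := congrArg (fun v : V1 F K => v.2.2.1) h5
    exact one_ne_zero h6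
  have hγ : γ ≠ 0 := by
    rintro rfl
    have h3 := hmid 1 0
    have h4 : ww x y 1 (0, 1, 0, 0) = ww x y 1 (((ww x y 1 (0, 1, 0, 0)).2.2.2 / s) • ((0, 0, 0, 1) : V1 F K)) := by
      rw [hW.smul, hWm, smul_smul, div_mul_cancel₀ _ hs0, ← sm3]
      refine Prod.ext (hfst _ rfl) (Prod.ext ?_ (Prod.ext ?_ rfl))
      · rw [h3.1, mul_zero]
      · rw [h3.2, zero_mul]
    have h5 := (ww x y 1).injective h4
    rw [← sm3] at h5
    have h6 := congrArg (fun v : V1 F K => v.2.1) h5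
    exact one_ne_zero h6
  -- vectors with first coordinate 0
  have dec : ∀ (a b : K) (c : F), ((0 : F), a, b, c) = ((0, a, b, 0) : V1 F K) + c • ((0, 0, 0, 1) : V1 F K) :=
    fun a b c => by
      rw [← sm3]
      change _ = (((0 : F) + 0, a + 0, b + 0, (0 : F) + c) : V1 F K)
      simp
  have hWc : ∀ (a b : K) (c : F), (ww x y 1 (0, a, b, c)).2.1 = β * b ∧ (ww x y 1 (0, a, b, c)).2.2.1 = γ * a :=
    fun a b c => by
      rw [dec, (coord_add hW _ _).2.1, (coord_add hW _ _).2.2.1, (coord_smul hW _ _).2.1,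
        (coord_smul hW _ _).2.2.1, h1, h2, smul_zero, add_zero, add_zero]
      exact hmid a b
  have hyc : ∀ (a b : K) (c : F), (y (-1) (0, a, b, c)).1 = (y (-1) (0, a, b, 0)).1 ∧
      (y (-1) (0, a, b, c)).2.1 = (y (-1) (0, a, b, 0)).2.1 := fun a b c => by
    have hY := y_Gd hR (-1)
    rw [dec, (coord_add hY _ _).2.1, (coord_add hY _ _).1, (coord_smul hY _ _).2.1,
      (coord_smul hY _ _).1, hym]
    constructor
    · simp
    · simp
  have hx0 : ∀ (a b : K) (c : F), x 1 (0, a, b, c) = (0, a, b + cr φ 1 a, c + tr φ b + tr φ a) := fun a b c => by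
    rw [hR.xact]
    simp [sh_one']
  -- `y(-1)` on the middle coordinates
  have hy1 : ∀ a b : K, (y (-1) (0, β * b, γ * a, 0)).1 = 0 ∧
      (y (-1) (0, β * b, γ * a, 0)).2.1 = β * (b + cr φ 1 a) := fun a b => by
    have h3 := wx' hR 1 (0, a, b, 0)
    have h4 : ww x y 1 (0, a, b, 0) = (0, β * b, γ * a, (ww x y 1 (0, a, b, 0)).2.2.2) :=
      Prod.ext (hfst _ rfl) (Prod.ext (hmid a b).1 (Prod.ext (hmid a b).2 rfl))
    rw [h4, hx0] at h3
    rw [← (hyc _ _ (ww x y 1 (0, a, b, 0)).2.2.2).1, ← (hyc _ _ (ww x y 1 (0, a, b, 0)).2.2.2).2, ← h3]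
    exact ⟨hfst _ rfl, (hWc _ _ _).1⟩
  have main : ∀ v : K, v + β * cr φ 1 (γ⁻¹ * cr φ 1 v) = 0 := fun v => by
    have h3 := (hmid v 0).1
    rw [mul_zero, ww_one, Equiv.Perm.mul_apply, Equiv.Perm.mul_apply, hx0] at h3
    have h4 := hy1 (γ⁻¹ * (0 + cr φ 1 v)) (β⁻¹ * v)
    rw [mul_inv_cancel_left₀ hβ, mul_inv_cancel_left₀ hγ] at h4
    have h5 := hyc v (0 + cr φ 1 v) (0 + tr φ 0 + tr φ v)
    rw [h4.1, h4.2] at h5
    rw [hR.xact] at h3
    dsimp only at h3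
    rw [h5.1, h5.2, zero_smul, add_zero, zero_add, mul_add, mul_inv_cancel_left₀ hβ] at h3
    exact h3
  have h7 := (dedekind φ (x := 1 + β * (φ (φ γ⁻¹) + φ γ⁻¹)) (y := β * φ (φ γ⁻¹)) (z := β * φ γ⁻¹) fun v => by
    have h8 := main v
    simp only [cr, map_add, map_mul, map_one, phi3, one_mul] at h8
    linear_combination h8).2.2
  rcases mul_eq_zero.1 h7 with h9 | h9
  · exact hβ h9
  · have : γ⁻¹ = 0 := by simpa using h9
    exact hγ (by simpa using this)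

theorem two_ne (hD : HypD φ p n) (hp : p ≠ 2) : (2 : F) ≠ 0 := by
  intro h
  have h1 : (2 : K) = 0 := by
    have := congrArg (algebraMap F K) h
    rw [map_ofNat, map_zero] at this
    exact this
  have hch := hD.char
  have : ((2 : ℕ) : K) = 0 := by exact_mod_cast h1
  have h3 := (CharP.cast_eq_zero_iff K p 2).1 this
  exact hp ((Nat.prime_dvd_prime_iff_eq hD.pp Nat.prime_two).1 h3)

theorem two_eq (hD : HypD φ p n) (hp : p = 2) : (2 : F) = 0 := by
  have hch := hD.char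
  subst hp
  apply (algebraMap F K).injective
  rw [map_ofNat, map_zero]
  have := CharP.cast_eq_zero K 2
  exact_mod_cast this

/-- **(e)** -/
theorem Wm_last (hD : HypD φ p n) (hR : RkV φ x y) : (ww x y 1 (0, 0, 0, 1)).2.2.2 = 0 := by
  by_contra hs
  have hr := Wm_fst hD hR
  obtain ⟨h1, h2⟩ := Wm_mid hR
  obtain ⟨T, hT⟩ := exists_Tor hR
  have hW := w_Gd hR 1
  have hnm : ∀ f : K, f ≠ 0 → nm φ f ^ 2 = 1 := fun f hf => by
    have hf' := inv_ne_zero hf
    obtain ⟨e1, -, -, e2⟩ := Tor.m hR hT hf'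
    rw [inv_inv] at e1 e2
    have e3 := mul_right_cancel₀ hr e1
    have e4 := mul_right_cancel₀ hs e2
    rw [e3, pow_two, nm_mul] at e4
    have e5 : (nm φ f * nm φ f) * T f = 1 * T f := by rw [one_mul]; exact e4.symm
    rw [pow_two]
    exact mul_right_cancel₀ (hT.ne hf) e5
  have hq := nm_sq_count hD hnm
  have hq2 := two_le_q hD
  obtain ⟨r, hr'⟩ : ∃ r, r = (ww x y 1 (0, 0, 0, 1)).1 := ⟨_, rfl⟩
  obtain ⟨s, hs'⟩ : ∃ s, s = (ww x y 1 (0, 0, 0, 1)).2.2.2 := ⟨_, rfl⟩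
  have hWm : ww x y 1 (0, 0, 0, 1) = (r, 0, 0, s) :=
    Prod.ext hr'.symm (Prod.ext h1 (Prod.ext h2 hs'.symm))
  rw [← hs'] at hs
  rw [← hr'] at hr
  rcases (by omega : p ^ n = 2 ∨ p ^ n = 3) with hc | hc
  · -- `q = 2`
    have hp : p = 2 := by
      have h3 : p ∣ 2 := by rw [← hc]; exact dvd_pow_self p (by have := hD.hn; omega)
      exact (Nat.prime_dvd_prime_iff_eq hD.pp Nat.prime_two).1 h3
    have h3 : quadV φ (ww x y 1 (0, 0, 0, 1)) = quadV φ (0, 0, 0, 1) := by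
      rw [ww_one, Equiv.Perm.mul_apply, Equiv.Perm.mul_apply, act_quadV (two_eq hD hp) (hR.xact 1),
        hR.two (by rw [hD.card, hc]), act_quadV (two_eq hD hp) (hR.xact 1)]
    rw [hWm] at h3
    simp only [quadV, mul_zero, tr_zero, add_zero] at h3
    rcases mul_eq_zero.1 h3 with h4 | h4
    · exact hs h4
    · exact hr h4
  · -- `q = 3`
    have hp : p ≠ 2 := by
      rintro rfl
      have h3 : 2 ∣ 3 := by rw [← hc]; exact dvd_pow_self 2 (by have := hD.hn; omega)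
      omega
    obtain ⟨g, hg, hgy⟩ := hR.three (by rw [hD.card, hc])
    have hgv : ∀ v : V1 F K, g v = (v.1, -v.2.1, v.2.2.1, -v.2.2.2) := fun v => by
      rw [hg.app v]
      simp [sh_neg, sh_one', nm_neg, nm_one]
    have hgg : g * g = 1 := by
      apply Equiv.ext
      intro v
      rw [Equiv.Perm.mul_apply, hgv, hgv]
      simp
    have hginv : g⁻¹ = g := inv_eq_of_mul_eq_one_left hgg
    have hfix : ∀ b, y b (g (ww x y 1 (0, 0, 0, 1))) = g (ww x y 1 (0, 0, 0, 1)) := fun b => by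
      obtain ⟨c, hc⟩ := hgy b
      rw [hginv] at hc
      have h3 : y b * g = g * y c := by
        rw [← hc, ← mul_assoc, ← mul_assoc, hgg, one_mul]
      rw [← Equiv.Perm.mul_apply, h3, Equiv.Perm.mul_apply, yWm hR]
    obtain ⟨z, hz⟩ := (ww x y 1).surjective (g (ww x y 1 (0, 0, 0, 1)))
    have hzfix : ∀ a, x a z = z := fun a => by
      apply (ww x y 1).injective
      rw [wx' hR, hz, hfix]
    have hz2 := fixX hR hzfix
    rw [hz2, hW.smul, hWm, hgv] at hz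
    have e1 := congrArg (fun v : V1 F K => v.1) hz
    have e2 := congrArg (fun v : V1 F K => v.2.2.2) hz
    change z.2.2.2 * r = r at e1
    change z.2.2.2 * s = -s at e2
    have e3 : z.2.2.2 = 1 := mul_right_cancel₀ hr (by rw [e1, one_mul])
    rw [e3, one_mul] at e2
    have e4 : 2 * s = 0 := by linear_combination e2
    rcases mul_eq_zero.1 e4 with e5 | e5
    · exact two_ne hD hp e5
    · exact hs e5

/-- **(f)** -/
theorem W_final (hD : HypD φ p n) (hR : RkV φ x y) : IsW1V (ww x y 1) := by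
  obtain ⟨β, γ, hmid⟩ := mid hD hR
  obtain ⟨h1, h2⟩ := Wm_mid hR
  have h3 := Wm_last hD hR
  have hr := Wm_fst hD hR
  have hW := w_Gd hR 1
  obtain ⟨r, hr'⟩ : ∃ r, r = (ww x y 1 (0, 0, 0, 1)).1 := ⟨_, rfl⟩
  have hWm : ww x y 1 (0, 0, 0, 1) = r • ((1, 0, 0, 0) : V1 F K) := by
    rw [← sm0]
    exact Prod.ext hr'.symm (Prod.ext h1 (Prod.ext h2 h3))
  rw [← hr'] at hr
  have hye : ∀ b, y b (1, 0, 0, 0) = (1, 0, 0, 0) := fun b => by
    have h3 := yWm hR b
    rw [hWm, (y_Gd hR b).smul] at h3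
    have h4 := congrArg (fun v => r⁻¹ • v) h3
    rw [smul_smul, smul_smul, inv_mul_cancel₀ hr, one_smul, one_smul] at h4
    exact h4
  have hWe : ww x y 1 (1, 0, 0, 0) = (ww x y 1 (1, 0, 0, 0)).2.2.2 • ((0, 0, 0, 1) : V1 F K) := by
    apply fixX hR
    intro a
    have h5 := wy' hR (-a) (1, 0, 0, 0)
    rw [neg_neg, hye] at h5
    exact h5.symm
  obtain ⟨d, hd⟩ : ∃ d, d = (ww x y 1 (1, 0, 0, 0)).2.2.2 := ⟨_, rfl⟩
  rw [← hd] at hWe
  have hd0 : d ≠ 0 := by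
    rintro rfl
    rw [zero_smul, ← hW.zero] at hWe
    have h5 := congrArg (fun v : V1 F K => v.1) ((ww x y 1).injective hWe)
    exact one_ne_zero h5
  have hmid2 : ∀ a b : K, ww x y 1 (0, a, b, 0) = (0, β * b, γ * a, 0) := fun a b => by
    refine Prod.ext ?_ (Prod.ext (hmid a b).1 (Prod.ext (hmid a b).2 ?_))
    · have h5 := hW.frm (1, 0, 0, 0) (0, a, b, 0)
      rw [hWe, formV_smul_left] at h5
      simp only [formV, zero_mul, mul_zero, tr_zero, one_mul, zero_sub, sub_zero, add_zero] at h5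
      rcases mul_eq_zero.1 h5 with h6 | h6
      · exact absurd h6 hd0
      · simpa using h6
    · have h5 := hW.frm (0, 0, 0, 1) (0, a, b, 0)
      rw [hWm, formV_smul_left] at h5
      simp only [formV, zero_mul, mul_zero, tr_zero, one_mul, sub_zero, add_zero] at h5
      rcases mul_eq_zero.1 h5 with h6 | h6
      · exact absurd h6 hr
      · simpa using h6
  have hWv : ∀ v0 v1 v2 v3, ww x y 1 (v0, v1, v2, v3) = (r * v3, β * v2, γ * v1, d * v0) := fun v0 v1 v2 v3 => by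
    have h5 : (v0, v1, v2, v3) = (v0 • ((1, 0, 0, 0) : V1 F K) + (0, v1, v2, 0)) + v3 • ((0, 0, 0, 1) : V1 F K) := by
      rw [← sm3, ← sm0]
      change _ = ((v0 + 0 + 0, 0 + v1 + 0, 0 + v2 + 0, 0 + 0 + v3) : V1 F K)
      simp
    rw [h5, hW.add, hW.add, hW.smul, hW.smul, hWm, hWe, hmid2, smul_smul, smul_smul, ← sm3, ← sm0]
    change ((0 + 0 + v3 * r, 0 + β * v2 + 0, 0 + γ * v1 + 0, v0 * d + 0 + 0) : V1 F K) = _
    simp [mul_comm]
  have e1 : y (-1) (x 1 (1, 0, 0, 0)) = ww x y 1 (1, 0, 0, 0) := by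
    apply (x 1).injective
    have e2 : x 1 (y (-1) (x 1 (1, 0, 0, 0))) = ww x y 1 (1, 0, 0, 0) := by
      rw [ww_one, Equiv.Perm.mul_apply, Equiv.Perm.mul_apply]
    rw [e2, hWe, (x_Gd hR 1).smul, x_m hR]
  have e3 : x 1 (1, 0, 0, 0) = ww x y 1 (x (-1) (1, 0, 0, 0)) := by
    rw [wx' hR, neg_neg, ← e1, ← Equiv.Perm.mul_apply, y_neg hR, mul_inv_cancel, Equiv.Perm.one_apply]
  rw [x_e hR, x_e hR, hWv, sh_neg, sh_one', nm_neg, nm_one] at e3
  have f0 := congrArg (fun v : V1 F K => v.1) e3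
  have f1 := congrArg (fun v : V1 F K => v.2.1) e3
  have f2 := congrArg (fun v : V1 F K => v.2.2.1) e3
  have f3 := congrArg (fun v : V1 F K => v.2.2.2) e3
  dsimp only at f0 f1 f2 f3
  have g0 : r = -1 := by linear_combination f0
  have g1 : β = 1 := by linear_combination -f1
  have g2 : γ = -1 := by linear_combination f2
  have g3 : d = 1 := by linear_combination -f3
  rintro ⟨v0, v1, v2, v3⟩
  rw [hWv, g0, g1, g2, g3]
  simp

end main

/-- **S5261 [D3-LIN1B]** -/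
theorem stLin1b : StLin1b.{u} := by
  intro F K _ _ _ φ _ p n hD x y hR
  have hW := W_final hD hR
  refine ⟨by rw [← ww_one]; exact hW, fun f hf => ?_⟩
  obtain ⟨T, hT⟩ := exists_Tor hR
  have hWe : ww x y 1 (1, 0, 0, 0) = (0, 0, 0, 1) := by
    rw [hW]
    simp
  -- `T f = (nm f)⁻¹`
  have h1 : nm φ (f ^ 2) * T f = nm φ f := by
    have h2 := hT.app f hf (0, 0, 0, 1)
    simp only [mul_zero, smul_zero, mul_one] at h2
    rw [Equiv.Perm.mul_apply, ← hWe, ← Equiv.Perm.mul_apply (ww x y 1)⁻¹, inv_mul_cancel, Equiv.Perm.one_apply, sm3] at h2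
    have h3 : y (-f⁻¹) (x f (1, 0, 0, 0)) = (nm φ (f ^ 2) * T f) • ((0, 0, 0, 1) : V1 F K) := by
      apply (x f).injective
      rw [(x_Gd hR f).smul, x_m hR, ← h2]
      rfl
    have h4 : x f (1, 0, 0, 0) = (nm φ (f ^ 2) * T f) • ww x y 1 (x (-f⁻¹) (1, 0, 0, 0)) := by
      rw [wx' hR, neg_neg, hWe, ← (y_Gd hR f⁻¹).smul, ← h3, ← Equiv.Perm.mul_apply, y_neg hR,
        mul_inv_cancel, Equiv.Perm.one_apply]
    rw [x_e hR, x_e hR, hW] at h4
    have h5 := congrArg (fun v : V1 F K => v.2.2.2) h4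
    change nm φ f = nm φ (f ^ 2) * T f * 1 at h5
    rw [mul_one] at h5
    exact h5.symm
  have hnm : nm φ f ≠ 0 := fun h => hf ((nm_eq_zero φ).1 h)
  have hTf : T f = (nm φ f)⁻¹ := by
    rw [pow_two, nm_mul] at h1
    field_simp
    apply mul_left_cancel₀ hnm
    linear_combination h1
  rw [← ww_one]
  refine ⟨pow_ne_zero 2 hf, inv_ne_zero hnm, fun _ => rfl, fun v => ?_⟩
  rw [← hTf]
  exact hT.app f hf v

end Cfsg.Agent.H200.D4
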