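import Cfsg.Agent.H780.D4.Stmts

/-!
# S5261 [D3-LIN1B]: preliminaries (field automorphisms, squares, form) (helper200)
-/

set_option autoImplicit false
set_option linter.unusedSectionVars false

namespace Cfsg.Agent.H200.D4

open Cfsg.Agent.H765.D3 Cfsg.Agent.H780.D4
open Cfsg.Agent.Hex.Defs (sh cr nm tr)

universe u

section fields

variable {F K : Type u} [Field F] [Field K] [Algebra F K] {φ : K ≃ₐ[F] K} [Cub φ] {p n : ℕ}

theorem sq_fix {f : K} (h : φ f ^ 2 = f ^ 2) : φ f = f := by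
  have h1 : (φ f - f) * (φ f + f) = 0 := by linear_combination h
  rcases mul_eq_zero.1 h1 with h2 | h2
  · exact sub_eq_zero.1 h2
  · have h3 : φ f = -f := by linear_combination h2
    have h4 := phi3 φ f
    rw [h3, map_neg, map_neg, h3, map_neg, h3] at h4
    -- `h4 : - - - f = f`
    have h5 : -f = f := by simpa using h4
    rw [h3, h5]

/-- if `f ^ N = 1` for all nonzero `f` then `q³ - 1 ≤ N` -/
theorem pow_count (hD : HypD φ p n) {N : ℕ} (hN : 0 < N) (h : ∀ f : K, f ≠ 0 → f ^ N = 1) :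
    (p ^ n) ^ 3 - 1 ≤ N := by
  have := hD.fin
  obtain ⟨g, hg⟩ := IsCyclic.exists_generator (α := Kˣ)
  have h1 : orderOf g = (p ^ n) ^ 3 - 1 := by
    rw [orderOf_eq_card_of_forall_mem_zpowers hg, ← hD.cardK]
    have := Fintype.ofFinite K
    rw [Nat.card_units]
  rw [← h1]
  apply Nat.le_of_dvd hN
  apply orderOf_dvd_of_pow_eq_one
  apply Units.ext
  rw [Units.val_pow_eq_pow_val]
  exact h g g.ne_zero

theorem two_le_q (hD : HypD φ p n) : 2 ≤ p ^ n :=
  le_trans hD.pp.two_le (Nat.le_self_pow (by have := hD.hn; omega) p)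

/-- `f⁴` is not fixed by `φ` for all `f` -/
theorem not_four (hD : HypD φ p n) (h : ∀ f : K, f ≠ 0 → φ f ^ 4 = f ^ 4) : False := by
  have hq := two_le_q hD
  obtain ⟨m, hm⟩ : ∃ m, p ^ n = m + 2 := ⟨p ^ n - 2, by omega⟩
  have h1 := pow_count hD (N := 4 * (p ^ n - 1)) (by omega) (fun f hf => by
    have h2 := h f hf
    rw [hD.phi, hm] at h2
    have h3 : f ^ (4 * (p ^ n - 1)) * f ^ 4 = f ^ 4 := by
      rw [← pow_add, hm, show 4 * (m + 2 - 1) + 4 = (m + 2) * 4 by omega, pow_mul]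
      exact h2
    exact mul_right_cancel₀ (pow_ne_zero 4 hf) (by rw [h3, one_mul]))
  rw [hm] at h1
  have h4 : (m + 2) ^ 3 - 1 = m ^ 3 + 6 * m ^ 2 + 12 * m + 7 := by
    have : (m + 2) ^ 3 = m ^ 3 + 6 * m ^ 2 + 12 * m + 7 + 1 := by ring
    omega
  rw [h4] at h1
  have h5 : 0 ≤ m ^ 3 := Nat.zero_le _
  have h6 : 0 ≤ m ^ 2 := Nat.zero_le _
  omega

/-- `f⁴ = 1` is not true for all `f` -/
theorem not_four_one (hD : HypD φ p n) (h : ∀ f : K, f ≠ 0 → f ^ 4 = 1) : False := by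
  apply not_four hD
  intro f hf
  rw [h f hf, h (φ f) (by simpa using hf)]

/-- the square of the norm is 1 for all elements only if `q ≤ 3` -/
theorem nm_sq_count (hD : HypD φ p n) (h : ∀ f : K, f ≠ 0 → nm φ f ^ 2 = 1) : p ^ n ≤ 3 := by
  have hq := two_le_q hD
  have h1 := pow_count hD (N := 2 * (1 + p ^ n + (p ^ n) ^ 2)) (by positivity) (fun f hf => by
    have h2 := congrArg (algebraMap F K) (h f hf)
    rw [map_pow, coe_nm, map_one, hD.phi, hD.phi] at h2
    rw [← h2]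
    ring)
  obtain ⟨m, hm⟩ : ∃ m, p ^ n = m + 2 := ⟨p ^ n - 2, by omega⟩
  rw [hm] at h1 ⊢
  by_contra hcon
  obtain ⟨l, rfl⟩ : ∃ l, m = l + 2 := ⟨m - 2, by omega⟩
  have h4 : (l + 2 + 2) ^ 3 - 1 = l ^ 3 + 12 * l ^ 2 + 48 * l + 63 := by
    have : (l + 2 + 2) ^ 3 = l ^ 3 + 12 * l ^ 2 + 48 * l + 63 + 1 := by ring
    omega
  rw [h4] at h1
  have h5 : 2 * (1 + (l + 2 + 2) + (l + 2 + 2) ^ 2) = 2 * l ^ 2 + 18 * l + 42 := by ring
  rw [h5] at h1
  have h6 : 0 ≤ l ^ 3 := Nat.zero_le _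
  have h7 : 0 ≤ l ^ 2 := Nat.zero_le _
  omega

/-- a ring homomorphism `K → K` fixing `F` is `1`, `φ` or `φ²` -/
theorem gal_cases (hD : HypD φ p n) (σ : K →+* K) (hσ : ∀ s : F, σ (algebraMap F K s) = algebraMap F K s) :
    (∀ t, σ t = t) ∨ (∀ t, σ t = φ t) ∨ (∀ t, σ t = φ (φ t)) := by
  have := hD.fin
  obtain ⟨g, hg⟩ := IsCyclic.exists_generator (α := Kˣ)
  have h1 : ∀ t : K, (σ t - t) * ((σ t - φ t) * (σ t - φ (φ t))) = 0 := fun t => by
    have h2 : t ^ 3 - algebraMap F K (tr φ t) * t ^ 2 + algebraMap F K (tr φ (sh φ t)) * t -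
        algebraMap F K (nm φ t) = 0 := by
      rw [coe_tr, coe_tr, coe_nm, sh]
      simp only [map_mul, phi3]
      ring
    have h3 := congrArg σ h2
    rw [map_sub, map_add, map_sub, map_mul, map_mul, map_pow, map_pow, hσ, hσ, hσ, map_zero] at h3
    rw [coe_tr, coe_tr, coe_nm, sh] at h3
    simp only [map_mul, phi3] at h3
    linear_combination h3
  have ext : ∀ τ : K →+* K, σ (g : K) = τ (g : K) → ∀ t, σ t = τ t := fun τ hτ t => by
    by_cases ht : t = 0
    · rw [ht, map_zero, map_zero]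
    obtain ⟨k, hk⟩ := hg (Units.mk0 t ht)
    have h5 : t = ((g ^ k : Kˣ) : K) := by
      change g ^ k = Units.mk0 t ht at hk
      rw [hk]
      rfl
    rw [h5, Units.val_zpow_eq_zpow_val, map_zpow₀, map_zpow₀, hτ]
  have h6 := h1 g
  rcases mul_eq_zero.1 h6 with h7 | h7
  · left
    exact ext (RingHom.id K) (sub_eq_zero.1 h7)
  rcases mul_eq_zero.1 h7 with h8 | h8
  · right; left
    exact ext (φ : K →+* K) (sub_eq_zero.1 h8)
  · right; right
    exact ext ((φ : K →+* K).comp (φ : K →+* K)) (sub_eq_zero.1 h8)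

/-- an additive subgroup of `K` containing all squares is `K` -/
theorem squares_span (hD : HypD φ p n) (A : AddSubgroup K) (h : ∀ f : K, f ^ 2 ∈ A) (t : K) : t ∈ A := by
  have hfin := hD.fin
  have hch := hD.char
  by_cases h2 : (2 : K) = 0
  · have hp2 : p = 2 := by
      have : ((2 : ℕ) : K) = 0 := by exact_mod_cast h2
      have h3 := (CharP.cast_eq_zero_iff K p 2).1 this
      exact (Nat.prime_dvd_prime_iff_eq hD.pp Nat.prime_two).1 h3
    subst hp2
    obtain ⟨s, hs⟩ := (FiniteField.isSquare_of_char_two (F := K) (by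
      exact ringChar.eq K 2) t)
    rw [hs, ← pow_two]
    exact h s
  · have h3 : t = ((t + 1) / 2) ^ 2 - ((t - 1) / 2) ^ 2 := by
      field_simp
      ring
    rw [h3]
    exact sub_mem (h _) (h _)

/-- **Lemma (b)** -/
theorem semi_cases (hD : HypD φ p n) (ψ : K → K) (hadd : ∀ s t, ψ (s + t) = ψ s + ψ t)
    (hlin : ∀ (a : F) t, ψ (a • t) = a • ψ t) (c : K → K) (hc : ∀ f, f ≠ 0 → ∀ v, ψ (f ^ 2 * v) = c f * ψ v) :
    (∀ t, ψ t = 0) ∨ (ψ 1 ≠ 0 ∧ ∃ σ : K →+* K, (∀ f : K, f ≠ 0 → σ (f ^ 2) = c f) ∧ (∀ t, ψ t = ψ 1 * σ t) ∧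
      ((∀ t, σ t = t) ∨ (∀ t, σ t = φ t) ∨ (∀ t, σ t = φ (φ t)))) := by
  have h00 : ψ 0 = 0 := by
    have := hadd 0 0
    rw [add_zero] at this
    simpa using this
  have hneg : ∀ t, ψ (-t) = -ψ t := fun t => by
    have := hadd t (-t)
    rw [add_neg_cancel, h00] at this
    exact (neg_eq_of_add_eq_zero_right this.symm).symm
  by_cases h1 : ψ 1 = 0
  · left
    intro t
    let A : AddSubgroup K :=
      { carrier := {s | ψ s = 0}
        add_mem' := fun {a b} (ha : ψ a = 0) (hb : ψ b = 0) => by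
          change ψ (a + b) = 0
          rw [hadd, ha, hb, add_zero]
        zero_mem' := h00
        neg_mem' := fun {a} (ha : ψ a = 0) => by
          change ψ (-a) = 0
          rw [hneg, ha, neg_zero] }
    refine squares_span hD A (fun f => ?_) t
    change ψ (f ^ 2) = 0
    by_cases hf : f = 0
    · rw [hf, zero_pow two_ne_zero, h00]
    have := hc f hf 1
    rw [mul_one, h1, mul_zero] at this
    exact this
  · right
    refine ⟨h1, ?_⟩
    have hmul : ∀ s t, ψ (s * t) * ψ 1 = ψ s * ψ t := fun s t => by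
      let A : AddSubgroup K :=
        { carrier := {s | ψ (s * t) * ψ 1 = ψ s * ψ t}
          add_mem' := fun {a b} (ha : ψ (a * t) * ψ 1 = ψ a * ψ t) (hb : ψ (b * t) * ψ 1 = ψ b * ψ t) => by
            change ψ ((a + b) * t) * ψ 1 = ψ (a + b) * ψ t
            rw [add_mul, hadd, hadd, add_mul, add_mul, ha, hb]
          zero_mem' := by
            change ψ (0 * t) * ψ 1 = ψ 0 * ψ t
            rw [zero_mul, h00, zero_mul, zero_mul]
          neg_mem' := fun {a} (ha : ψ (a * t) * ψ 1 = ψ a * ψ t) => by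
            change ψ ((-a) * t) * ψ 1 = ψ (-a) * ψ t
            rw [neg_mul, hneg, hneg, neg_mul, neg_mul, ha] }
      refine squares_span hD A (fun f => ?_) s
      change ψ (f ^ 2 * t) * ψ 1 = ψ (f ^ 2) * ψ t
      by_cases hf : f = 0
      · rw [hf, zero_pow two_ne_zero, zero_mul, h00, zero_mul, zero_mul]
      have h2 := hc f hf 1
      rw [mul_one] at h2
      rw [hc f hf t, h2]
      ring
    let σ : K →+* K :=
      { toFun := fun t => ψ t / ψ 1
        map_one' := div_self h1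
        map_mul' := fun s t => by
          change ψ (s * t) / ψ 1 = ψ s / ψ 1 * (ψ t / ψ 1)
          rw [div_mul_div_comm, ← hmul, mul_div_mul_right _ _ h1]
        map_zero' := by
          change ψ 0 / ψ 1 = 0
          rw [h00, zero_div]
        map_add' := fun s t => by
          change ψ (s + t) / ψ 1 = ψ s / ψ 1 + ψ t / ψ 1
          rw [hadd, add_div] }
    have hσ : ∀ t, σ t = ψ t / ψ 1 := fun t => rfl
    refine ⟨σ, fun f hf => ?_, fun t => ?_, ?_⟩
    · have h2 := hc f hf 1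
      rw [mul_one] at h2
      rw [hσ, h2, mul_div_assoc, div_self h1, mul_one]
    · rw [hσ, mul_div_cancel₀ _ h1]
    · apply gal_cases hD
      intro s
      rw [hσ, Algebra.algebraMap_eq_smul_one, hlin, smul_div_assoc, div_self h1]

end fields

end Cfsg.Agent.H200.D4
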