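import Cfsg.Agent.H200.D4.LinA

/-!
# S5261 [D3-LIN1B]: the form, the relations (helper200)
-/

set_option autoImplicit false
set_option linter.unusedSectionVars false

namespace Cfsg.Agent.H200.D4

open Cfsg.Agent.H765.D3 Cfsg.Agent.H780.D4
open Cfsg.Agent.Hex.Defs (sh cr nm tr)

universe u

section semi

variable {F K : Type u} [Field F] [Field K] [Algebra F K] {φ : K ≃ₐ[F] K} [Cub φ] {p n : ℕ}

theorem semi_A (hD : HypD φ p n) (ψ : K → K) (hadd : ∀ s t, ψ (s + t) = ψ s + ψ t)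
    (hlin : ∀ (a : F) t, ψ (a • t) = a • ψ t) (c : K → K) (hc : ∀ f, f ≠ 0 → ∀ v, ψ (f ^ 2 * v) = c f * ψ v)
    (h2 : ∀ f, f ≠ 0 → c f ^ 2 = φ f ^ 4 * φ (φ f) ^ 4) : ∀ t, ψ t = 0 := by
  rcases semi_cases hD ψ hadd hlin c hc with h | ⟨-, σ, h3, -, h4⟩
  · exact h
  exfalso
  have h5 : ∀ f : K, f ≠ 0 → σ f ^ 4 = φ f ^ 4 * φ (φ f) ^ 4 := fun f hf => by
    rw [← h2 f hf, ← h3 f hf, map_pow]
    ring
  rcases h4 with h4 | h4 | h4
  · apply not_four hD
    intro f hf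
    have h6 := h5 f hf
    have h7 := h5 (φ f) (by simpa using hf)
    rw [h4] at h6 h7
    rw [phi3] at h7
    have h8 : φ (f ^ 4) = f ^ 4 := by
      apply sq_fix
      rw [map_pow]
      linear_combination (φ f) ^ 4 * h7 - f ^ 4 * h6
    rw [map_pow] at h8
    exact h8
  · apply not_four_one hD
    intro f hf
    have h6 := h5 f hf
    rw [h4] at h6
    have h9 : φ f ^ 4 ≠ 0 := pow_ne_zero _ (by simpa using hf)
    have h7 : φ (φ f) ^ 4 = 1 := mul_left_cancel₀ h9 (by rw [mul_one]; exact h6.symm)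
    have h8 := congrArg φ h7
    rw [map_pow, phi3, map_one] at h8
    exact h8
  · apply not_four_one hD
    intro f hf
    have h6 := h5 f hf
    rw [h4] at h6
    have h9 : φ (φ f) ^ 4 ≠ 0 := pow_ne_zero _ (by simpa using hf)
    have h7 : φ f ^ 4 = 1 := mul_right_cancel₀ h9 (by rw [one_mul]; exact h6.symm)
    have h8 := congrArg (fun t => φ (φ t)) h7
    simp only [map_pow, phi3, map_one] at h8
    exact h8

theorem semi_B (hD : HypD φ p n) (ψ : K → K) (hadd : ∀ s t, ψ (s + t) = ψ s + ψ t)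
    (hlin : ∀ (a : F) t, ψ (a • t) = a • ψ t) (c : K → K) (hc : ∀ f, f ≠ 0 → ∀ v, ψ (f ^ 2 * v) = c f * ψ v)
    (h2 : ∀ f, f ≠ 0 → c f ^ 2 = f ^ 4) : ∀ t, ψ t = ψ 1 * t := by
  rcases semi_cases hD ψ hadd hlin c hc with h | ⟨-, σ, h3, h0, h4⟩
  · intro t
    rw [h t, h 1, zero_mul]
  have h5 : ∀ f : K, f ≠ 0 → σ f ^ 4 = f ^ 4 := fun f hf => by
    rw [← h2 f hf, ← h3 f hf, map_pow]
    ring
  rcases h4 with h4 | h4 | h4
  · intro t
    rw [h0 t, h4 t]
  · exfalso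
    apply not_four hD
    intro f hf
    rw [← h4, h5 f hf]
  · exfalso
    apply not_four hD
    intro f hf
    have h6 := congrArg φ (h5 f hf)
    rw [h4, map_pow, map_pow, phi3] at h6
    exact h6.symm

end semi

section group

variable {K : Type u} [Field K] {G : Type*} [Group G]

/-- `w(f)` -/
def ww (x y : K → G) (f : K) : G := x f * y (-f⁻¹) * x f

variable {x y : K → G}
  (rel1 : ∀ f : K, f ≠ 0 → ∀ g : K, ww x y f * x g * (ww x y f)⁻¹ = y (-(f⁻¹ ^ 2 * g)))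
  (rel2 : ∀ f : K, f ≠ 0 → ∀ g : K, ww x y f * y g * (ww x y f)⁻¹ = x (-(f ^ 2 * g)))

include rel1 rel2

theorem ww_eq {g : K} (hg : g ≠ 0) : ww x y g = y (-g⁻¹) * x g * y (-g⁻¹) := by
  have h1 : ww x y g = (ww x y g * x g * (ww x y g)⁻¹) * (ww x y g * y (-g⁻¹) * (ww x y g)⁻¹) *
      (ww x y g * x g * (ww x y g)⁻¹) := by
    have h2 : (ww x y g * x g * (ww x y g)⁻¹) * (ww x y g * y (-g⁻¹) * (ww x y g)⁻¹) *
      (ww x y g * x g * (ww x y g)⁻¹) = ww x y g * (x g * y (-g⁻¹) * x g) * (ww x y g)⁻¹ := by group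
    rw [h2]
    change ww x y g = ww x y g * ww x y g * (ww x y g)⁻¹
    group
  rw [h1, rel1 g hg, rel2 g hg]
  have h3 : -(g⁻¹ ^ 2 * g) = -g⁻¹ := by field_simp
  have h4 : -(g ^ 2 * -g⁻¹) = g := by field_simp
  rw [h3, h4]

theorem ww_conj {f : K} (hf : f ≠ 0) : ww x y 1 * ww x y f * (ww x y 1)⁻¹ = ww x y f⁻¹ := by
  have h1 : ww x y 1 * ww x y f * (ww x y 1)⁻¹ = (ww x y 1 * x f * (ww x y 1)⁻¹) *
      (ww x y 1 * y (-f⁻¹) * (ww x y 1)⁻¹) * (ww x y 1 * x f * (ww x y 1)⁻¹) := by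
    change ww x y 1 * (x f * y (-f⁻¹) * x f) * (ww x y 1)⁻¹ = _
    group
  rw [h1, rel1 1 one_ne_zero, rel2 1 one_ne_zero, ww_eq rel1 rel2 (inv_ne_zero hf)]
  simp

/-- `h(f) = w(f) w(1)⁻¹` -/
theorem hh_conj {f : K} (hf : f ≠ 0) :
    ww x y 1 * (ww x y f * (ww x y 1)⁻¹) = (ww x y f⁻¹ * (ww x y 1)⁻¹) * ww x y 1 := by
  rw [← ww_conj rel1 rel2 hf]
  group

end group

section form

variable {F K : Type u} [Field F] [Field K] [Algebra F K] {φ : K ≃ₐ[F] K} [Cub φ] {p n : ℕ}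

/-- the simp set for identities in `F`, by the injection into `K` -/
macro "cubF" : tactic => `(tactic| (apply (algebraMap F K).injective; cub))

theorem formV_smul_left (c : F) (v w : V1 F K) : formV φ (c • v) w = c * formV φ v w := by
  obtain ⟨v0, v1, v2, v3⟩ := v
  obtain ⟨w0, w1, w2, w3⟩ := w
  change c * v0 * w3 - c * v3 * w0 - tr φ (c • v1 * w2) + tr φ (c • v2 * w1) =
    c * (v0 * w3 - v3 * w0 - tr φ (v1 * w2) + tr φ (v2 * w1))
  rw [smul_mul_assoc, smul_mul_assoc, tr_smul, tr_smul]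
  ring

theorem formV_sub_left (v v' w : V1 F K) : formV φ (v - v') w = formV φ v w - formV φ v' w := by
  simp only [formV, Prod.fst_sub, Prod.snd_sub, sub_mul, tr_sub]
  ring

theorem formV_nondeg {v : V1 F K} (h : ∀ w, formV φ v w = 0) : v = 0 := by
  obtain ⟨v0, v1, v2, v3⟩ := v
  have h0 := h (0, 0, 0, 1)
  have h3 := h (1, 0, 0, 0)
  simp only [formV, mul_zero, mul_one, tr_zero, sub_zero, add_zero] at h0 h3
  have h1 : v1 = 0 := tr_nondeg φ (fun t => by
    have := h (0, 0, t, 0)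
    simp only [formV, mul_zero, tr_zero, sub_zero, add_zero, zero_sub, neg_eq_zero] at this
    exact this)
  have h2 : v2 = 0 := tr_nondeg φ (fun t => by
    have := h (0, t, 0, 0)
    simp only [formV, mul_zero, tr_zero, sub_zero, zero_add] at this
    exact this)
  rw [h0, h1, h2]
  have h3' : v3 = 0 := by simpa using h3
  rw [h3']
  rfl

/-- additive bijections preserving the form -/
structure Gd (φ : K ≃ₐ[F] K) (g : Equiv.Perm (V1 F K)) : Prop where
  add : ∀ v w, g (v + w) = g v + g w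
  frm : ∀ v w, formV φ (g v) (g w) = formV φ v w

theorem Gd.mul {g h : Equiv.Perm (V1 F K)} (hg : Gd φ g) (hh : Gd φ h) : Gd φ (g * h) := by
  refine ⟨fun v w => ?_, fun v w => ?_⟩
  · rw [Equiv.Perm.mul_apply, Equiv.Perm.mul_apply, Equiv.Perm.mul_apply, hh.add, hg.add]
  · rw [Equiv.Perm.mul_apply, Equiv.Perm.mul_apply, hg.frm, hh.frm]

theorem Gd.smul {g : Equiv.Perm (V1 F K)} (hg : Gd φ g) (c : F) (v : V1 F K) : g (c • v) = c • g v := by
  rw [← sub_eq_zero]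
  apply formV_nondeg (φ := φ)
  intro w
  obtain ⟨u, rfl⟩ := g.surjective w
  rw [formV_sub_left, formV_smul_left, hg.frm, hg.frm, formV_smul_left, sub_self]

theorem Gd.zero {g : Equiv.Perm (V1 F K)} (hg : Gd φ g) : g 0 = 0 := by
  have := hg.smul 0 0
  rwa [zero_smul, zero_smul] at this

theorem act_Gd {g : Equiv.Perm (V1 F K)} {a : K} (hg : IsActV φ g a) : Gd φ g := by
  refine ⟨fun v w => ?_, fun v w => ?_⟩
  · rw [hg, hg, hg]
    obtain ⟨v0, v1, v2, v3⟩ := v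
    obtain ⟨w0, w1, w2, w3⟩ := w
    simp only [Prod.mk_add_mk]
    refine Prod.ext rfl (Prod.ext ?_ (Prod.ext ?_ ?_))
    · dsimp only
      rw [add_smul]
      ring
    · dsimp only
      rw [add_smul, cr_add_right]
      ring
    · dsimp only
      rw [mul_add, mul_add, tr_add, tr_add]
      ring
  · rw [hg, hg]
    obtain ⟨v0, v1, v2, v3⟩ := v
    obtain ⟨w0, w1, w2, w3⟩ := w
    simp only [formV]
    cubF

theorem act_quadV (h2 : (2 : F) = 0) {g : Equiv.Perm (V1 F K)} {a : K} (hg : IsActV φ g a) (v : V1 F K) :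
    quadV φ (g v) = quadV φ v := by
  have h2' : (2 : K) = 0 := by
    have := congrArg (algebraMap F K) h2
    rw [map_ofNat, map_zero] at this
    exact this
  rw [hg]
  obtain ⟨v0, v1, v2, v3⟩ := v
  simp only [quadV]
  apply (algebraMap F K).injective
  simp only [map_add, map_mul, coe_tr, coe_nm, sh, cr, phi3, phi_coe, Algebra.smul_def]
  linear_combination (a * v2 * (algebraMap F K) v0 + a * φ a * φ (φ a) * (algebraMap F K) v0 ^ 2 * 2 +
    a * φ a * φ (φ v1) * (algebraMap F K) v0 * 2 + a * φ (φ a) * φ v1 * (algebraMap F K) v0 * 2 +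
    a * φ v1 * φ (φ v1) + φ a * φ v2 * (algebraMap F K) v0 + φ a * φ (φ a) * v1 * (algebraMap F K) v0 * 2 +
    φ a * v1 * φ (φ v1) + φ (φ a) * φ (φ v2) * (algebraMap F K) v0 + φ (φ a) * v1 * φ v1) * h2'

theorem act_mul {g h : Equiv.Perm (V1 F K)} {a b : K} (hg : IsActV φ g a) (hh : IsActV φ h b) :
    IsActV φ (g * h) (a + b) := by
  intro v
  rw [Equiv.Perm.mul_apply, hh, hg]
  obtain ⟨v0, v1, v2, v3⟩ := v
  dsimp only
  refine Prod.ext rfl (Prod.ext ?_ (Prod.ext ?_ ?_))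
  · dsimp only
    cub
  · dsimp only
    cub
  · dsimp only
    cubF

theorem act_inj {g h : Equiv.Perm (V1 F K)} {a : K} (hg : IsActV φ g a) (hh : IsActV φ h a) : g = h := by
  apply Equiv.ext
  intro v
  rw [hg, hh]

end form

end Cfsg.Agent.H200.D4
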