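import Cfsg.Agent.H200.D4.LinB

/-!
# S5261 [D3-LIN1B]: the Weyl element on the middle coordinates (helper200)
-/

set_option autoImplicit false
set_option linter.unusedSectionVars false

namespace Cfsg.Agent.H200.D4

open Cfsg.Agent.H765.D3 Cfsg.Agent.H780.D4
open Cfsg.Agent.Hex.Defs (sh cr nm tr)

universe u

section main

variable {F K : Type u} [Field F] [Field K] [Algebra F K] {φ : K ≃ₐ[F] K} [Cub φ] {p n : ℕ}
  {x y : K → Equiv.Perm (V1 F K)}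

theorem x_add (hR : RkV φ x y) (a b : K) : x (a + b) = x a * x b :=
  act_inj (hR.xact _) (act_mul (hR.xact a) (hR.xact b))

theorem x_zero (hR : RkV φ x y) : x 0 = 1 := by
  have := x_add hR 0 0
  rw [add_zero] at this
  exact (left_eq_mul.1 this)

theorem y_zero (hR : RkV φ x y) : y 0 = 1 := by
  have := hR.yadd 0 0
  rw [add_zero] at this
  exact (left_eq_mul.1 this)

theorem x_neg (hR : RkV φ x y) (a : K) : x (-a) = (x a)⁻¹ := by
  apply eq_inv_of_mul_eq_one_left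
  rw [← x_add hR, neg_add_cancel, x_zero hR]

theorem y_neg (hR : RkV φ x y) (a : K) : y (-a) = (y a)⁻¹ := by
  apply eq_inv_of_mul_eq_one_left
  rw [← hR.yadd, neg_add_cancel, y_zero hR]

theorem x_Gd (hR : RkV φ x y) (a : K) : Gd φ (x a) := act_Gd (hR.xact a)

theorem y_Gd (hR : RkV φ x y) (a : K) : Gd φ (y a) := ⟨hR.lin a, hR.frm a⟩

theorem w_Gd (hR : RkV φ x y) (f : K) : Gd φ (ww x y f) := ((x_Gd hR _).mul (y_Gd hR _)).mul (x_Gd hR _)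

theorem ww_one : ww x y 1 = x 1 * y (-1) * x 1 := by rw [ww, inv_one]

theorem wx (hR : RkV φ x y) (g : K) : ww x y 1 * x g = y (-g) * ww x y 1 := by
  have h := hR.rel1 1 one_ne_zero g
  change ww x y 1 * x g * (ww x y 1)⁻¹ = _ at h
  rw [inv_one, one_pow, one_mul] at h
  rw [← h]
  group

theorem wy (hR : RkV φ x y) (g : K) : ww x y 1 * y g = x (-g) * ww x y 1 := by
  have h := hR.rel2 1 one_ne_zero g
  change ww x y 1 * y g * (ww x y 1)⁻¹ = _ at h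
  rw [one_pow, one_mul] at h
  rw [← h]
  group

theorem wx' (hR : RkV φ x y) (g : K) (v : V1 F K) : ww x y 1 (x g v) = y (-g) (ww x y 1 v) := by
  rw [← Equiv.Perm.mul_apply, wx hR, Equiv.Perm.mul_apply]

theorem wy' (hR : RkV φ x y) (g : K) (v : V1 F K) : ww x y 1 (y g v) = x (-g) (ww x y 1 v) := by
  rw [← Equiv.Perm.mul_apply, wy hR, Equiv.Perm.mul_apply]

/-- the parameters of `h(f)` -/
structure Tor (φ : K ≃ₐ[F] K) (x y : K → Equiv.Perm (V1 F K)) (T : K → F) : Prop where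
  sq : ∀ f : K, f ≠ 0 → T f ^ 2 * nm φ f ^ 2 = 1
  app : ∀ f : K, f ≠ 0 → ∀ v : V1 F K, (ww x y f * (ww x y 1)⁻¹) v =
    (T f * v.1, T f • (f ^ 2 * v.2.1), T f • (sh φ (f ^ 2) * v.2.2.1), nm φ (f ^ 2) * T f * v.2.2.2)

theorem exists_Tor (hR : RkV φ x y) : ∃ T : K → F, Tor φ x y T := by
  have h : ∀ f : K, ∃ t : F, f ≠ 0 → t ^ 2 * nm φ f ^ 2 = 1 ∧
      IsTorV φ (ww x y f * (ww x y 1)⁻¹) (f ^ 2) t (RingEquiv.refl K) (RingEquiv.refl F) := fun f => by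
    by_cases hf : f = 0
    · exact ⟨0, fun h => absurd hf h⟩
    · obtain ⟨t, h1, h2⟩ := hR.tor f hf
      rw [← ww_one] at h2
      exact ⟨t, fun _ => ⟨h1, h2⟩⟩
  choose T hT using h
  refine ⟨T, fun f hf => (hT f hf).1, fun f hf v => ?_⟩
  have := (hT f hf).2.app v
  exact this

variable {T : K → F}

theorem Tor.ne (hT : Tor φ x y T) {f : K} (hf : f ≠ 0) : T f ≠ 0 := by
  intro h
  have := hT.sq f hf
  rw [h] at this
  simp at this

/-- `T f⁻¹ / T f` -/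
theorem Tor.ratio (hT : Tor φ x y T) {f : K} (hf : f ≠ 0) : (T f⁻¹ / T f) ^ 2 = nm φ f ^ 4 := by
  have h1 := hT.sq f hf
  have h2 := hT.sq f⁻¹ (inv_ne_zero hf)
  have h3 : nm φ f * nm φ f⁻¹ = 1 := by rw [← nm_mul, mul_inv_cancel₀ hf, nm_one]
  have h4 := hT.ne hf
  rw [div_pow, div_eq_iff (pow_ne_zero 2 h4)]
  have h5 : T f⁻¹ ^ 2 = nm φ f ^ 2 * (T f⁻¹ ^ 2 * nm φ f⁻¹ ^ 2) := by
    have : nm φ f ^ 2 * (T f⁻¹ ^ 2 * nm φ f⁻¹ ^ 2) = T f⁻¹ ^ 2 * (nm φ f * nm φ f⁻¹) ^ 2 := by ring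
    rw [this, h3, one_pow, mul_one]
  rw [h5, h2]
  linear_combination -nm φ f ^ 2 * h1

theorem Tor.key (hR : RkV φ x y) (hT : Tor φ x y T) {f : K} (hf : f ≠ 0) (v : V1 F K) :
    ww x y 1 (T f * v.1, T f • (f ^ 2 * v.2.1), T f • (sh φ (f ^ 2) * v.2.2.1), nm φ (f ^ 2) * T f * v.2.2.2) =
      (T f⁻¹ * (ww x y 1 v).1, T f⁻¹ • (f⁻¹ ^ 2 * (ww x y 1 v).2.1),
        T f⁻¹ • (sh φ (f⁻¹ ^ 2) * (ww x y 1 v).2.2.1), nm φ (f⁻¹ ^ 2) * T f⁻¹ * (ww x y 1 v).2.2.2) := by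
  rw [← hT.app f hf, ← hT.app f⁻¹ (inv_ne_zero hf), ← Equiv.Perm.mul_apply, ← Equiv.Perm.mul_apply]
  rw [hh_conj (fun f hf g => hR.rel1 f hf g) (fun f hf g => hR.rel2 f hf g) hf]

theorem coord_add {g : Equiv.Perm (V1 F K)} (hg : Gd φ g) (v w : V1 F K) :
    (g (v + w)).1 = (g v).1 + (g w).1 ∧ (g (v + w)).2.1 = (g v).2.1 + (g w).2.1 ∧
      (g (v + w)).2.2.1 = (g v).2.2.1 + (g w).2.2.1 ∧ (g (v + w)).2.2.2 = (g v).2.2.2 + (g w).2.2.2 := by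
  rw [hg.add]
  exact ⟨rfl, rfl, rfl, rfl⟩

theorem coord_smul {g : Equiv.Perm (V1 F K)} (hg : Gd φ g) (c : F) (v : V1 F K) :
    (g (c • v)).1 = c * (g v).1 ∧ (g (c • v)).2.1 = c • (g v).2.1 ∧
      (g (c • v)).2.2.1 = c • (g v).2.2.1 ∧ (g (c • v)).2.2.2 = c * (g v).2.2.2 := by
  rw [hg.smul]
  exact ⟨rfl, rfl, rfl, rfl⟩

theorem inj1 (s t : K) : ((0 : F), s + t, (0 : K), (0 : F)) = ((0, s, 0, 0) : V1 F K) + (0, t, 0, 0) := by
  change _ = (((0 : F) + 0, s + t, (0 : K) + 0, (0 : F) + 0) : V1 F K)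
  simp

theorem inj2 (s t : K) : ((0 : F), (0 : K), s + t, (0 : F)) = ((0, 0, s, 0) : V1 F K) + (0, 0, t, 0) := by
  change _ = (((0 : F) + 0, (0 : K) + 0, s + t, (0 : F) + 0) : V1 F K)
  simp

theorem sm1 (c : F) (s : K) : ((0 : F), c • s, (0 : K), (0 : F)) = c • ((0, s, 0, 0) : V1 F K) := by
  change _ = ((c * 0, c • s, c • 0, c * 0) : V1 F K)
  simp

theorem sm2 (c : F) (s : K) : ((0 : F), (0 : K), c • s, (0 : F)) = c • ((0, 0, s, 0) : V1 F K) := by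
  change _ = ((c * 0, c • 0, c • s, c * 0) : V1 F K)
  simp

/-- the relation with `h(f)` on the coordinates -/
theorem Tor.k1 (hR : RkV φ x y) (hT : Tor φ x y T) {f : K} (hf : f ≠ 0) (a : K) :
    T f • (ww x y 1 (0, f ^ 2 * a, 0, 0)).2.1 = T f⁻¹ • (f⁻¹ ^ 2 * (ww x y 1 (0, a, 0, 0)).2.1) ∧
    T f • (ww x y 1 (0, f ^ 2 * a, 0, 0)).2.2.1 = T f⁻¹ • (sh φ (f⁻¹ ^ 2) * (ww x y 1 (0, a, 0, 0)).2.2.1) := by
  have h := Tor.key hR hT hf (0, a, 0, 0)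
  simp only [mul_zero, smul_zero] at h
  rw [sm1, (w_Gd hR 1).smul] at h
  exact ⟨congrArg (fun v => v.2.1) h, congrArg (fun v => v.2.2.1) h⟩

theorem Tor.k2 (hR : RkV φ x y) (hT : Tor φ x y T) {f : K} (hf : f ≠ 0) (b : K) :
    T f • (ww x y 1 (0, 0, sh φ (f ^ 2) * b, 0)).2.1 = T f⁻¹ • (f⁻¹ ^ 2 * (ww x y 1 (0, 0, b, 0)).2.1) ∧
    T f • (ww x y 1 (0, 0, sh φ (f ^ 2) * b, 0)).2.2.1 =
      T f⁻¹ • (sh φ (f⁻¹ ^ 2) * (ww x y 1 (0, 0, b, 0)).2.2.1) := by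
  have h := Tor.key hR hT hf (0, 0, b, 0)
  simp only [mul_zero, smul_zero] at h
  rw [sm2, (w_Gd hR 1).smul] at h
  exact ⟨congrArg (fun v => v.2.1) h, congrArg (fun v => v.2.2.1) h⟩

theorem Tor.k3 (hR : RkV φ x y) (hT : Tor φ x y T) {f : K} (hf : f ≠ 0) (b : K) :
    (T f * nm φ (f ^ 2)) • (ww x y 1 (0, 0, b, 0)).2.1 =
      T f⁻¹ • (f⁻¹ ^ 2 * (ww x y 1 (0, 0, f ^ 2 * b, 0)).2.1) ∧
    (T f * nm φ (f ^ 2)) • (ww x y 1 (0, 0, b, 0)).2.2.1 =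
      T f⁻¹ • (sh φ (f⁻¹ ^ 2) * (ww x y 1 (0, 0, f ^ 2 * b, 0)).2.2.1) := by
  have h := Tor.k2 hR hT hf (f ^ 2 * b)
  have h1 : sh φ (f ^ 2) * (f ^ 2 * b) = nm φ (f ^ 2) • b := by
    rw [← mul_assoc, sh_mul_self, Algebra.smul_def]
  rw [h1, sm2, (coord_smul (w_Gd hR 1) _ _).2.1, (coord_smul (w_Gd hR 1) _ _).2.2.1] at h
  rw [mul_smul, mul_smul]
  exact h

/-- **(c)**: the Weyl element on the middle coordinates -/
theorem mid (hD : HypD φ p n) (hR : RkV φ x y) : ∃ β γ : K, ∀ a b : K,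
    (ww x y 1 (0, a, b, 0)).2.1 = β * b ∧ (ww x y 1 (0, a, b, 0)).2.2.1 = γ * a := by
  obtain ⟨T, hT⟩ := exists_Tor hR
  have hW := w_Gd hR 1
  have ratK : ∀ f : K, f ≠ 0 → (algebraMap F K (T f⁻¹ / T f)) ^ 2 = (f * φ f * φ (φ f)) ^ 4 := fun f hf => by
    rw [← coe_nm, ← map_pow, ← map_pow, hT.ratio hf]
  have ratK' : ∀ f : K, f ≠ 0 → (algebraMap F K (T f / T f⁻¹)) ^ 2 * (f * φ f * φ (φ f)) ^ 4 = 1 := fun f hf => by
    rw [← ratK f hf, ← map_pow, ← map_pow, ← map_mul, ← mul_pow, div_mul_div_cancel₀ (hT.ne (inv_ne_zero hf)),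
      div_self (hT.ne hf), one_pow, map_one]
  have hne : ∀ f : K, f ≠ 0 → φ f ≠ 0 ∧ φ (φ f) ≠ 0 := fun f hf => ⟨by simpa using hf, by simpa using hf⟩
  -- solve `T f • u = T f⁻¹ • v`
  have sol : ∀ (f : K) (u v : K), f ≠ 0 → T f • u = T f⁻¹ • v → u = algebraMap F K (T f⁻¹ / T f) * v :=
    fun f u v hf h => by
      have h1 : algebraMap F K (T f) ≠ 0 := by simpa using hT.ne hf
      rw [Algebra.smul_def, Algebra.smul_def] at h
      rw [map_div₀, div_mul_eq_mul_div, eq_div_iff h1, ← h, mul_comm]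
  have hα : ∀ a, (ww x y 1 (0, a, 0, 0)).2.1 = 0 := by
    refine semi_A hD (fun a => (ww x y 1 (0, a, 0, 0)).2.1) (fun s t => ?_) (fun c t => ?_)
      (fun f => algebraMap F K (T f⁻¹ / T f) * f⁻¹ ^ 2) (fun f hf v => ?_) (fun f hf => ?_)
    · rw [inj1]
      exact (coord_add hW _ _).2.1
    · rw [sm1]
      exact (coord_smul hW _ _).2.1
    · rw [mul_assoc]
      exact sol f _ _ hf (Tor.k1 hR hT hf v).1
    · rw [mul_pow, ratK f hf]
      field_simp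
  have hγ : ∀ a, (ww x y 1 (0, a, 0, 0)).2.2.1 = (ww x y 1 (0, 1, 0, 0)).2.2.1 * a := by
    refine semi_B hD (fun a => (ww x y 1 (0, a, 0, 0)).2.2.1) (fun s t => ?_) (fun c t => ?_)
      (fun f => algebraMap F K (T f⁻¹ / T f) * sh φ (f⁻¹ ^ 2)) (fun f hf v => ?_) (fun f hf => ?_)
    · rw [inj1]
      exact (coord_add hW _ _).2.2.1
    · rw [sm1]
      exact (coord_smul hW _ _).2.2.1
    · rw [mul_assoc]
      exact sol f _ _ hf (Tor.k1 hR hT hf v).2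
    · obtain ⟨h1, h2⟩ := hne f hf
      rw [mul_pow, ratK f hf, sh]
      simp only [map_pow, map_inv₀]
      field_simp
  have hδ : ∀ a, (ww x y 1 (0, 0, a, 0)).2.2.1 = 0 := by
    refine semi_A hD (fun a => (ww x y 1 (0, 0, a, 0)).2.2.1) (fun s t => ?_) (fun c t => ?_)
      (fun f => algebraMap F K (T f / T f⁻¹) * (f * φ f * φ (φ f)) ^ 2 * sh φ (f ^ 2)) (fun f hf v => ?_)
      (fun f hf => ?_)
    · rw [inj2]
      exact (coord_add hW _ _).2.2.1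
    · rw [sm2]
      exact (coord_smul hW _ _).2.2.1
    · obtain ⟨h1, h2⟩ := hne f hf
      have h3 := (Tor.k3 hR hT hf v).2
      have h4 : algebraMap F K (T f) ≠ 0 := by simpa using hT.ne hf
      have h5 : algebraMap F K (T f⁻¹) ≠ 0 := by simpa using hT.ne (inv_ne_zero hf)
      rw [Algebra.smul_def, Algebra.smul_def, map_mul, coe_nm, sh] at h3
      simp only [map_pow, map_inv₀] at h3
      rw [sh, map_div₀]
      simp only [map_pow]
      generalize algebraMap F K (T f⁻¹) = A at h3 h5 ⊢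
      field_simp at h3 ⊢
      linear_combination -h3
    · rw [mul_pow, mul_pow]
      have h3 := ratK' f hf
      rw [sh]
      simp only [map_pow]
      linear_combination (φ f ^ 4 * φ (φ f) ^ 4) * h3
  have hβ : ∀ a, (ww x y 1 (0, 0, a, 0)).2.1 = (ww x y 1 (0, 0, 1, 0)).2.1 * a := by
    refine semi_B hD (fun a => (ww x y 1 (0, 0, a, 0)).2.1) (fun s t => ?_) (fun c t => ?_)
      (fun f => algebraMap F K (T f / T f⁻¹) * (f * φ f * φ (φ f)) ^ 2 * f ^ 2) (fun f hf v => ?_)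
      (fun f hf => ?_)
    · rw [inj2]
      exact (coord_add hW _ _).2.1
    · rw [sm2]
      exact (coord_smul hW _ _).2.1
    · obtain ⟨h1, h2⟩ := hne f hf
      have h3 := (Tor.k3 hR hT hf v).1
      have h4 : algebraMap F K (T f) ≠ 0 := by simpa using hT.ne hf
      have h5 : algebraMap F K (T f⁻¹) ≠ 0 := by simpa using hT.ne (inv_ne_zero hf)
      rw [Algebra.smul_def, Algebra.smul_def, map_mul, coe_nm] at h3
      simp only [map_pow] at h3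
      rw [map_div₀]
      generalize algebraMap F K (T f⁻¹) = A at h3 h5 ⊢
      field_simp at h3 ⊢
      linear_combination -h3
    · rw [mul_pow, mul_pow]
      have h3 := ratK' f hf
      linear_combination (f ^ 4) * h3
  refine ⟨(ww x y 1 (0, 0, 1, 0)).2.1, (ww x y 1 (0, 1, 0, 0)).2.2.1, fun a b => ?_⟩
  have h1 : ((0 : F), a, b, (0 : F)) = ((0, a, 0, 0) : V1 F K) + (0, 0, b, 0) := by
    change _ = (((0 : F) + 0, a + 0, (0 : K) + b, (0 : F) + 0) : V1 F K)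
    simp
  rw [h1, (coord_add hW _ _).2.1, (coord_add hW _ _).2.2.1, hα a, hδ b, hβ b, hγ a, zero_add, add_zero]
  exact ⟨rfl, rfl⟩

end main

end Cfsg.Agent.H200.D4
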